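import Mathlib

/-!
The signed sum `∑ (-1)^k q^C(k,2)` over all subspaces vanishes unless the space is zero.
-/

set_option autoImplicit false

namespace CfsgLib.SpUnipCount

open Module Submodule

/-- The Möbius function of the subspace lattice at a subspace of dimension `k`. -/
def mu (q k : ℕ) : ℤ := (-1) ^ k * (q : ℤ) ^ k.choose 2

theorem mu_succ (q k : ℕ) : mu q (k + 1) = -(q : ℤ) ^ k * mu q k := by
  rw [mu, mu, Nat.choose_succ_succ', Nat.choose_one_right, pow_succ, pow_add]
  ring

variable {F : Type*} [Field F]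

/-- The signed sum over all subspaces. -/
noncomputable def muSum (F V : Type*) [Field F] [AddCommGroup V] [Module F V] : ℤ :=
  ∑ᶠ W : Submodule F V, mu (Nat.card F) (finrank F W)

section Hyperplane

variable {V : Type*} [AddCommGroup V] [Module F V] (φ : V →ₗ[F] F) (v : V)

/-- The subspace outside `ker φ` attached to a subspace of `ker φ` and a class modulo it. -/
noncomputable def outer (z : Σ W : Submodule F (LinearMap.ker φ), LinearMap.ker φ ⧸ W) : Submodule F V :=
  z.1.map (LinearMap.ker φ).subtype ⊔ span F {v + (Quotient.out z.2 : LinearMap.ker φ)}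

variable {φ v} (hv : φ v = 1)

include hv

theorem phi_add (h : LinearMap.ker φ) : φ (v + h) = 1 := by
  rw [map_add, hv, LinearMap.mem_ker.1 h.2, add_zero]

theorem mem_outer {z : Σ W : Submodule F (LinearMap.ker φ), LinearMap.ker φ ⧸ W} {x : V} :
    x ∈ outer φ v z ↔ ∃ w ∈ z.1, ∃ a : F, x = (w : V) + a • (v + (Quotient.out z.2 : LinearMap.ker φ)) := by
  rw [outer, mem_sup]
  constructor
  · rintro ⟨y, hy, t, ht, rfl⟩
    obtain ⟨w, hw, rfl⟩ := mem_map.1 hy
    obtain ⟨a, rfl⟩ := mem_span_singleton.1 ht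
    exact ⟨w, hw, a, rfl⟩
  · rintro ⟨w, hw, a, rfl⟩
    exact ⟨w, mem_map.2 ⟨w, hw, rfl⟩, _, mem_span_singleton.2 ⟨a, rfl⟩, rfl⟩

theorem outer_not_le (z) : ¬ outer φ v z ≤ LinearMap.ker φ := fun h => by
  have h1 := h ((mem_outer hv).2 ⟨0, z.1.zero_mem, 1, by simp; rfl⟩)
  rw [LinearMap.mem_ker, phi_add hv] at h1
  exact one_ne_zero h1

theorem outer_comap (z) : (outer φ v z).comap (LinearMap.ker φ).subtype = z.1 := by
  ext x
  rw [mem_comap, mem_outer hv]
  constructor
  · rintro ⟨w, hw, a, e⟩
    have ha : a = 0 := by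
      have := congrArg φ e
      rw [coe_subtype, LinearMap.mem_ker.1 x.2, map_add, LinearMap.mem_ker.1 w.2, zero_add, map_smul,
        phi_add hv, smul_eq_mul, mul_one] at this
      exact this.symm
    rw [ha, zero_smul, add_zero] at e
    exact (Subtype.ext e : x = w) ▸ hw
  · exact fun hx => ⟨x, hx, 0, by simp⟩

theorem outer_injective : Function.Injective (outer φ v) := by
  intro z z' e
  obtain ⟨W, c⟩ := z
  obtain ⟨W', c'⟩ := z'
  have hW : W = W' := by
    have h := outer_comap hv ⟨W, c⟩
    rw [e, outer_comap hv ⟨W', c'⟩] at h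
    exact h.symm
  subst hW
  obtain ⟨w, hw, a, e1⟩ := (mem_outer hv).1 (e ▸ (mem_outer hv (z := ⟨W, c⟩)).2 ⟨0, W.zero_mem, 1, rfl⟩)
  simp only [ZeroMemClass.coe_zero, zero_add, one_smul] at e1
  have ha : a = 1 := by
    have := congrArg φ e1
    rw [map_add φ (w : V), LinearMap.mem_ker.1 w.2, zero_add, map_smul, phi_add hv, phi_add hv, smul_eq_mul,
      mul_one] at this
    exact this.symm
  rw [ha, one_smul] at e1
  have h2 : (Quotient.out c : LinearMap.ker φ) = w + Quotient.out c' := Subtype.ext (by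
    rw [coe_add]
    exact add_left_cancel (e1.trans (add_left_comm _ _ _)))
  have : c = c' := by
    rw [← Submodule.Quotient.mk_out c, ← Submodule.Quotient.mk_out c', Submodule.Quotient.eq, h2, add_sub_cancel_right]
    exact hw
  rw [this]

theorem outer_surjective {U : Submodule F V} (hU : ¬ U ≤ LinearMap.ker φ) : ∃ z, outer φ v z = U := by
  obtain ⟨x, hxU, hx⟩ := SetLike.not_le_iff_exists.1 hU
  rw [LinearMap.mem_ker] at hx
  have hh : (φ x)⁻¹ • x - v ∈ LinearMap.ker φ := by
    rw [LinearMap.mem_ker, map_sub, map_smul, hv, smul_eq_mul, inv_mul_cancel₀ hx, sub_self]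
  set W := U.comap (LinearMap.ker φ).subtype with hW
  refine ⟨⟨W, Submodule.Quotient.mk ⟨_, hh⟩⟩, ?_⟩
  set o := (Quotient.out (Submodule.Quotient.mk (⟨_, hh⟩ : LinearMap.ker φ) : LinearMap.ker φ ⧸ W) : LinearMap.ker φ)
  have ho : o - ⟨_, hh⟩ ∈ W := (Submodule.Quotient.eq W).1 (Submodule.Quotient.mk_out _)
  have hoU : v + (o : V) ∈ U := by
    have h1 := U.add_mem (U.smul_mem (φ x)⁻¹ hxU) (mem_comap.1 ho)
    convert h1 using 1
    simp only [map_sub, coe_subtype]
    abel
  refine le_antisymm (sup_le (map_comap_le _ _) ((span_singleton_le_iff_mem _ _).2 hoU)) fun y hy => ?_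
  refine (mem_outer hv).2 ⟨⟨y - φ y • (v + (o : V)), ?_⟩, ?_, φ y, (sub_add_cancel _ _).symm⟩
  · rw [LinearMap.mem_ker, map_sub, map_smul, phi_add hv, smul_eq_mul, mul_one, sub_self]
  · exact mem_comap.2 (U.sub_mem hy (U.smul_mem _ hoU))

theorem finrank_outer [FiniteDimensional F V] (z) : finrank F (outer φ v z) = finrank F z.1 + 1 := by
  have h := finrank_sup_add_finrank_inf_eq (z.1.map (LinearMap.ker φ).subtype)
    (span F {v + ((Quotient.out z.2 : LinearMap.ker φ) : V)})
  have hne : v + ((Quotient.out z.2 : LinearMap.ker φ) : V) ≠ 0 := fun h0 => by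
    have := phi_add hv (Quotient.out z.2 : LinearMap.ker φ)
    rw [h0, map_zero] at this
    exact zero_ne_one this
  have hd : z.1.map (LinearMap.ker φ).subtype ⊓ span F {v + ((Quotient.out z.2 : LinearMap.ker φ) : V)} = ⊥ := by
    rw [eq_bot_iff]
    rintro y ⟨hy, hy'⟩
    obtain ⟨a, rfl⟩ := mem_span_singleton.1 hy'
    obtain ⟨w, -, e⟩ := mem_map.1 hy
    have := congrArg φ e
    rw [coe_subtype, LinearMap.mem_ker.1 w.2, map_smul, phi_add hv, smul_eq_mul, mul_one] at this
    rw [← this, zero_smul]
    exact zero_mem _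
  rw [hd, finrank_bot, add_zero, finrank_span_singleton hne, finrank_map_subtype_eq] at h
  exact h

end Hyperplane

variable [Finite F]

theorem muSum_eq : ∀ (d : ℕ) (V : Type*) [AddCommGroup V] [Module F V] [FiniteDimensional F V],
    finrank F V = d → muSum F V = if d = 0 then 1 else 0 := by
  intro d
  induction d with
  | zero =>
    intro V _ _ _ hd
    have : Subsingleton V := finrank_zero_iff.1 hd
    rw [muSum, finsum_eq_single _ ⊥ (fun W hW => absurd (Subsingleton.elim W ⊥) hW), finrank_bot]
    simp [mu]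
  | succ d ih =>
    intro V _ _ _ hd
    classical
    have := Module.finite_of_finite F (M := V)
    have := Fintype.ofFinite (Submodule F V)
    obtain ⟨v, hv0⟩ : ∃ v : V, v ≠ 0 := by
      have : Nontrivial V := Module.nontrivial_of_finrank_eq_succ hd
      exact exists_ne 0
    obtain ⟨φ, hφ⟩ := Module.Projective.exists_dual_ne_zero F hv0
    set v' := (φ v)⁻¹ • v with hv'
    have hv : φ v' = 1 := by rw [hv', map_smul, smul_eq_mul, inv_mul_cancel₀ hφ]
    have hH : finrank F (LinearMap.ker φ) = d := by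
      have h1 := φ.finrank_range_add_finrank_ker
      rw [LinearMap.range_eq_top.2 (fun a => ⟨a • v', by rw [map_smul, hv, smul_eq_mul, mul_one]⟩), finrank_top,
        finrank_self, hd] at h1
      omega
    have := Fintype.ofFinite (Submodule F (LinearMap.ker φ))
    have hin : ∑ W ∈ Finset.univ.filter (fun W : Submodule F V => W ≤ LinearMap.ker φ),
        mu (Nat.card F) (finrank F W) = muSum F (LinearMap.ker φ) := by
      rw [muSum, finsum_eq_sum_of_fintype]
      refine Finset.sum_bij' (fun W _ => W.comap (LinearMap.ker φ).subtype)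
        (fun W _ => W.map (LinearMap.ker φ).subtype) (fun _ _ => Finset.mem_univ _)
        (fun W _ => Finset.mem_filter.2 ⟨Finset.mem_univ _, map_subtype_le _ _⟩) (fun W hW => ?_)
        (fun W _ => comap_map_eq_of_injective (injective_subtype _) W) (fun W hW => ?_)
      · exact (map_comap_subtype _ _).trans (inf_eq_right.2 (Finset.mem_filter.1 hW).2)
      · rw [← finrank_map_subtype_eq, (map_comap_subtype _ _).trans (inf_eq_right.2 (Finset.mem_filter.1 hW).2)]
    have hout : ∑ W ∈ Finset.univ.filter (fun W : Submodule F V => ¬ W ≤ LinearMap.ker φ),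
        mu (Nat.card F) (finrank F W) = -(Nat.card F : ℤ) ^ d * muSum F (LinearMap.ker φ) := by
      haveI : ∀ W : Submodule F (LinearMap.ker φ), Finite (LinearMap.ker φ ⧸ W) := fun W =>
        Module.finite_of_finite F
      have := fun W : Submodule F (LinearMap.ker φ) => Fintype.ofFinite (LinearMap.ker φ ⧸ W)
      rw [← Finset.sum_bij (s := Finset.univ) (fun z _ => outer φ v' z)
        (fun z _ => Finset.mem_filter.2 ⟨Finset.mem_univ _, outer_not_le hv z⟩)
        (fun z _ z' _ e => outer_injective hv e)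
        (fun U hU => (outer_surjective hv (Finset.mem_filter.1 hU).2).imp fun z hz => ⟨Finset.mem_univ _, hz⟩)
        (fun z _ => rfl)]
      rw [Fintype.sum_sigma, muSum, finsum_eq_sum_of_fintype, Finset.mul_sum]
      refine Finset.sum_congr rfl fun W _ => ?_
      rw [Finset.sum_congr rfl fun (y : LinearMap.ker φ ⧸ W) _ => show mu (Nat.card F) (finrank F (outer φ v' ⟨W, y⟩)) =
        mu (Nat.card F) (finrank F W + 1) by rw [finrank_outer hv]]
      rw [Finset.sum_const, Finset.card_univ, ← Nat.card_eq_fintype_card, Module.natCard_eq_pow_finrank (K := F),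
        nsmul_eq_mul, mu_succ, Nat.cast_pow]
      have h1 := W.finrank_quotient_add_finrank
      rw [hH] at h1
      rw [← h1, pow_add]
      ring
    rw [muSum, finsum_eq_sum_of_fintype,
      ← Finset.sum_filter_add_sum_filter_not Finset.univ (fun W : Submodule F V => W ≤ LinearMap.ker φ),
      hin, hout, ih _ hH, if_neg (Nat.succ_ne_zero d)]
    rcases Nat.eq_zero_or_pos d with h | h
    · simp [h]
    · simp [h.ne']

end CfsgLib.SpUnipCount
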