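import Mathlib

/-!
A q-series identity: the convolution of the normalised counts of unipotent and of fixed point free symplectic elements.
-/

set_option autoImplicit false

namespace CfsgLib.SpUnipCount

open PowerSeries Finset

variable (q : ℕ)

/-- `∏_{i<k} (q^(2(i+1)) - 1)`. -/
def evenProd (k : ℕ) : ℕ := ∏ i ∈ range k, (q ^ (2 * (i + 1)) - 1)

/-- `∏_{i<k} (q^(i+1) - 1)`. -/
def allProd (k : ℕ) : ℕ := ∏ i ∈ range k, (q ^ (i + 1) - 1)

variable {q}

theorem evenProd_pos (hq : 1 < q) (k : ℕ) : 0 < evenProd q k :=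
  prod_pos fun i _ => Nat.sub_pos_of_lt (Nat.one_lt_pow (by omega) hq)

theorem allProd_pos (hq : 1 < q) (k : ℕ) : 0 < allProd q k :=
  prod_pos fun i _ => Nat.sub_pos_of_lt (Nat.one_lt_pow (by omega) hq)

theorem cast_evenProd_succ (hq : 1 < q) (k : ℕ) :
    (evenProd q (k + 1) : ℚ) = evenProd q k * ((q : ℚ) ^ (2 * (k + 1)) - 1) := by
  rw [evenProd, prod_range_succ, Nat.cast_mul, Nat.cast_sub (Nat.one_le_pow _ _ (by omega)), Nat.cast_pow,
    Nat.cast_one]
  rfl

theorem cast_allProd_succ (hq : 1 < q) (k : ℕ) :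
    (allProd q (k + 1) : ℚ) = allProd q k * ((q : ℚ) ^ (k + 1) - 1) := by
  rw [allProd, prod_range_succ, Nat.cast_mul, Nat.cast_sub (Nat.one_le_pow _ _ (by omega)), Nat.cast_pow,
    Nat.cast_one]
  rfl

/-- The normalised number of unipotent elements. -/
noncomputable def serA (q : ℕ) : ℚ⟦X⟧ := mk fun k => (q : ℚ) ^ k ^ 2 / evenProd q k

/-- The reciprocal of the product of the `1 - q^(-2i)`. -/
noncomputable def serE (q : ℕ) : ℚ⟦X⟧ := mk fun k => (q : ℚ) ^ (k ^ 2 + k) / evenProd q k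

/-- The contribution of the isotropic subspaces. -/
noncomputable def serC (q : ℕ) : ℚ⟦X⟧ := mk fun k => (-1 : ℚ) ^ k / allProd q k

theorem rescale_serE (hq : 1 < q) :
    rescale ((q : ℚ) ^ 2)⁻¹ (serE q) = (1 - X) * serE q := by
  have hq0 : (q : ℚ) ≠ 0 := Nat.cast_ne_zero.2 (by omega)
  refine PowerSeries.ext fun n => ?_
  rw [coeff_rescale, sub_mul, one_mul, map_sub]
  rcases n with - | n
  · simp
  rw [coeff_succ_X_mul, serE, coeff_mk, coeff_mk]
  have h1 : (evenProd q n : ℚ) ≠ 0 := Nat.cast_ne_zero.2 (evenProd_pos hq n).ne'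
  have h2 : (q : ℚ) ^ (2 * (n + 1)) - 1 ≠ 0 := by
    have := (evenProd_pos hq (n + 1)).ne'
    rw [← Nat.cast_ne_zero (R := ℚ), cast_evenProd_succ hq] at this
    exact (mul_ne_zero_iff.1 this).2
  rw [cast_evenProd_succ hq, inv_pow, ← pow_mul]
  field_simp
  ring

theorem rescale_serA (hq : 1 < q) :
    rescale ((q : ℚ) ^ 2)⁻¹ (serA q) = (1 - C (q : ℚ)⁻¹ * X) * serA q := by
  have hq0 : (q : ℚ) ≠ 0 := Nat.cast_ne_zero.2 (by omega)
  refine PowerSeries.ext fun n => ?_
  rw [coeff_rescale, sub_mul, one_mul, map_sub, mul_assoc, coeff_C_mul]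
  rcases n with - | n
  · simp
  rw [coeff_succ_X_mul, serA, coeff_mk, coeff_mk]
  have h1 : (evenProd q n : ℚ) ≠ 0 := Nat.cast_ne_zero.2 (evenProd_pos hq n).ne'
  have h2 : (q : ℚ) ^ (2 * (n + 1)) - 1 ≠ 0 := by
    have := (evenProd_pos hq (n + 1)).ne'
    rw [← Nat.cast_ne_zero (R := ℚ), cast_evenProd_succ hq] at this
    exact (mul_ne_zero_iff.1 this).2
  rw [cast_evenProd_succ hq, inv_pow, ← pow_mul]
  field_simp
  ring

theorem serC_eq (hq : 1 < q) : serC q = (1 - C (q : ℚ)⁻¹ * X) * rescale (q : ℚ)⁻¹ (serC q) := by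
  have hq0 : (q : ℚ) ≠ 0 := Nat.cast_ne_zero.2 (by omega)
  refine PowerSeries.ext fun n => ?_
  rw [sub_mul, one_mul, map_sub, mul_assoc, coeff_C_mul, coeff_rescale]
  rcases n with - | n
  · simp
  rw [coeff_succ_X_mul, coeff_rescale, serC, coeff_mk, coeff_mk]
  have h1 : (allProd q n : ℚ) ≠ 0 := Nat.cast_ne_zero.2 (allProd_pos hq n).ne'
  have h2 : (q : ℚ) ^ (n + 1) - 1 ≠ 0 := by
    have := (allProd_pos hq (n + 1)).ne'
    rw [← Nat.cast_ne_zero (R := ℚ), cast_allProd_succ hq] at this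
    exact (mul_ne_zero_iff.1 this).2
  rw [cast_allProd_succ hq, inv_pow, inv_pow]
  field_simp
  ring

/-- The convolution is the all one sequence. -/
theorem serA_mul_serE_mul_serC (hq : 1 < q) : serA q * (serE q * serC q) = PowerSeries.mk 1 := by
  have hq1 : (1 : ℚ) < q := by exact_mod_cast hq
  have hx : ((q : ℚ) ^ 2)⁻¹ = (q : ℚ)⁻¹ * (q : ℚ)⁻¹ := by rw [sq, mul_inv]
  set r := (q : ℚ)⁻¹ with hr
  set x := ((q : ℚ) ^ 2)⁻¹ with hxd
  have hC : serC q = (1 - C r * X) * ((1 - C x * X) * rescale x (serC q)) := by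
    conv_lhs => rw [serC_eq hq, serC_eq hq]
    rw [map_mul, rescale_rescale, ← hr, ← hx, map_sub, map_one, map_mul, rescale_X, hx, map_mul C]
    rw [show rescale r (C r) = C r from PowerSeries.ext fun k => by rcases k with - | k <;> simp [coeff_rescale, coeff_C]]
    ring
  let P : ℚ⟦X⟧ := (1 - X) * (serA q * (serE q * serC q))
  have hP : rescale x P = P := by
    show rescale x ((1 - X) * (serA q * (serE q * serC q))) = (1 - X) * (serA q * (serE q * serC q))
    rw [map_mul, map_mul, map_mul, map_sub, map_one, rescale_X, rescale_serE hq, rescale_serA hq, ← hr]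
    conv_rhs => rw [hC]
    ring
  have hP1 : P = 1 := by
    refine PowerSeries.ext fun n => ?_
    rcases n with - | n
    · simp [P, serA, serE, serC, evenProd, allProd, coeff_zero_eq_constantCoeff]
    have h := congrArg (coeff (n + 1)) hP
    rw [coeff_rescale] at h
    rw [coeff_one, if_neg n.succ_ne_zero]
    have hlt : x ^ (n + 1) < 1 :=
      pow_lt_one₀ (by positivity) (inv_lt_one_of_one_lt₀ (one_lt_pow₀ hq1 two_ne_zero)) n.succ_ne_zero
    exact (mul_eq_zero.1 (show (x ^ (n + 1) - 1) * coeff (n + 1) P = 0 by rw [sub_mul, h, one_mul, sub_self])).resolve_left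
      (sub_ne_zero.2 hlt.ne)
  rw [← mul_one (serA q * (serE q * serC q)), ← mk_one_mul_one_sub_eq_one (S := ℚ)]
  show _ * (PowerSeries.mk 1 * (1 - X)) = _
  rw [show serA q * (serE q * serC q) * (PowerSeries.mk 1 * (1 - X)) = PowerSeries.mk 1 * P by ring, hP1, mul_one]

theorem eq_serA_of_conv (hq : 1 < q) {N : ℚ⟦X⟧} (h : N * (serE q * serC q) = PowerSeries.mk 1) : N = serA q := by
  refine mul_right_cancel₀ ?_ (h.trans (serA_mul_serE_mul_serC hq).symm)
  intro h0
  have := congrArg constantCoeff h0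
  simp [serE, serC, evenProd, allProd] at this

end CfsgLib.SpUnipCount
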