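import Cfsg.Agent.Lib.Sp.Card
import Cfsg.Agent.Lib.SpUnipCount.Mobius
import Cfsg.Agent.Lib.SpUnipCount.Series

/-!
The number of symplectic matrices without eigenvalue one.
-/

set_option autoImplicit false

namespace CfsgLib.SpUnipCount

open Cfsg Matrix Module
open CfsgLib.Sp

variable {F : Type*} [Field F] {m : ℕ}

local notation "ι" => Fin m ⊕ Fin m

/-- Bilinear forms with antisymmetrisation the symplectic form. -/
abbrev Aff (m : ℕ) (F : Type*) [Field F] : Type _ :=
  {M : Matrix (Fin m ⊕ Fin m) (Fin m ⊕ Fin m) F // Mᵀ - M = J (Fin m) F}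

theorem J_det_ne : (J (Fin m) F).det ≠ 0 := (isUnit_det_J (Fin m) F).ne_zero

/-- Fixed point free symplectic matrices are the nondegenerate forms in the affine space. -/
theorem card_fixFree_eq :
    Nat.card {g : symplecticGroup (Fin m) F // ((g : Matrix ι ι F) - 1).det ≠ 0} =
      Nat.card {M : Aff m F // M.1.det ≠ 0} := by
  have key : ∀ A : Matrix ι ι F, A.det ≠ 0 →
      (A + 1 ∈ symplecticGroup (Fin m) F ↔ (J (Fin m) F * A⁻¹)ᵀ - J (Fin m) F * A⁻¹ = J (Fin m) F) := by
    intro A hA
    have hu : IsUnit A.det := hA.isUnit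
    have hu' : IsUnit Aᵀ.det := by rwa [det_transpose]
    rw [SymplecticGroup.mem_iff', transpose_mul, transpose_nonsing_inv, J_transpose]
    constructor
    · intro h
      rw [transpose_add, transpose_one] at h
      have h1 : Aᵀ * J (Fin m) F * A + Aᵀ * J (Fin m) F + J (Fin m) F * A = 0 := by
        rw [add_mul Aᵀ 1, one_mul, mul_add, mul_one, add_mul] at h
        rw [← sub_eq_zero] at h
        rw [← h]
        abel
      have h2 := congrArg (fun X => (Aᵀ)⁻¹ * X * A⁻¹) h1
      simp only [mul_zero, zero_mul, mul_add, add_mul, mul_assoc, mul_nonsing_inv _ hu, mul_one,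
        nonsing_inv_mul_cancel_left _ _ hu'] at h2
      rw [mul_neg]
      rw [← sub_eq_zero, ← neg_eq_zero]
      rw [← h2]
      abel
    · intro h
      rw [mul_neg] at h
      have h2 := congrArg (fun X => Aᵀ * X * A) h
      simp only [mul_sub, sub_mul, mul_neg, neg_mul, mul_assoc, nonsing_inv_mul _ hu, mul_one,
        mul_nonsing_inv_cancel_left _ _ hu'] at h2
      rw [transpose_add, transpose_one, add_mul Aᵀ 1, one_mul, mul_add, mul_one, add_mul, mul_assoc]
      rw [← sub_eq_zero] at h2 ⊢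
      rw [← neg_eq_zero, ← h2]
      abel
  refine Nat.card_congr
    { toFun := fun g => ⟨⟨J (Fin m) F * ((g.1 : Matrix ι ι F) - 1)⁻¹, (key _ g.2).1 (by rw [sub_add_cancel]; exact g.1.2)⟩, ?_⟩
      invFun := fun M => ⟨⟨M.1.1⁻¹ * J (Fin m) F + 1, (key _ ?_).2 ?_⟩, ?_⟩
      left_inv := fun g => ?_
      right_inv := fun M => ?_ }
  · rw [det_mul, det_nonsing_inv, Ring.inverse_eq_inv']
    exact mul_ne_zero J_det_ne (inv_ne_zero g.2)
  · rw [det_mul, det_nonsing_inv, Ring.inverse_eq_inv']
    exact mul_ne_zero (inv_ne_zero M.2) J_det_ne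
  · rw [Matrix.mul_inv_rev, nonsing_inv_nonsing_inv _ (M.2.isUnit), ← mul_assoc,
      mul_nonsing_inv _ (isUnit_det_J (Fin m) F), one_mul]
    exact M.1.2
  · rw [add_sub_cancel_right, det_mul, det_nonsing_inv, Ring.inverse_eq_inv']
    exact mul_ne_zero (inv_ne_zero M.2) J_det_ne
  · refine Subtype.ext (Subtype.ext ?_)
    show (J (Fin m) F * ((g.1 : Matrix ι ι F) - 1)⁻¹)⁻¹ * J (Fin m) F + 1 = _
    rw [Matrix.mul_inv_rev, nonsing_inv_nonsing_inv _ (g.2.isUnit), mul_assoc,
      nonsing_inv_mul _ (isUnit_det_J (Fin m) F), mul_one, sub_add_cancel]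
  · refine Subtype.ext (Subtype.ext ?_)
    show J (Fin m) F * (M.1.1⁻¹ * J (Fin m) F + 1 - 1)⁻¹ = _
    rw [add_sub_cancel_right, Matrix.mul_inv_rev, nonsing_inv_nonsing_inv _ (M.2.isUnit), ← mul_assoc,
      mul_nonsing_inv _ (isUnit_det_J (Fin m) F), one_mul]

/-- Totally isotropic subspaces. -/
def IsIso (W : Submodule F (ι → F)) : Prop := ∀ u ∈ W, ∀ v ∈ W, sympForm m F u v = 0

theorem sympForm_eq (M : Aff m F) (u v : ι → F) :
    sympForm m F u v = (M.1 *ᵥ u) ⬝ᵥ v - u ⬝ᵥ (M.1 *ᵥ v) := by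
  obtain ⟨M, hM⟩ := M
  show sympForm m F u v = (M *ᵥ u) ⬝ᵥ v - u ⬝ᵥ (M *ᵥ v)
  rw [sympForm, ← hM, sub_mulVec, dotProduct_sub, dotProduct_mulVec u Mᵀ, vecMul_transpose]

theorem isIso_of_kill (M : Aff m F) {W : Submodule F (ι → F)} (h : ∀ w ∈ W, M.1 *ᵥ w = 0) : IsIso W := by
  intro u hu v hv
  rw [sympForm_eq M, h u hu, h v hv]
  simp

theorem isIso_tuple {W : Submodule F (ι → F)} (hW : IsIso W) {k : ℕ} (hk : finrank F W = k) :
    ∃ x ∈ isoTuples m F k, Submodule.span F (Set.range x) = W := by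
  let b := Module.finBasisOfFinrankEq F W hk
  refine ⟨fun i => (b i : ι → F), ⟨b.linearIndependent.map' W.subtype W.ker_subtype,
    fun i j => hW _ (b i).2 _ (b j).2⟩, ?_⟩
  show Submodule.span F (Set.range (W.subtype ∘ b)) = W
  rw [Set.range_comp, ← Submodule.map_span, b.span_eq, Submodule.map_subtype_top]

theorem le_of_isoTuples {k : ℕ} {x : Fin k → ι → F} (hx : x ∈ isoTuples m F k) : k ≤ m := by
  have h := Submodule.finrank_mono (span_le_orthSpan hx.2)
  rw [finrank_span_eq_card hx.1, finrank_orthSpan hx.1, Fintype.card_fin] at h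
  omega

theorem isIso_le {W : Submodule F (ι → F)} (hW : IsIso W) : finrank F W ≤ m := by
  obtain ⟨x, hx, -⟩ := isIso_tuple hW rfl
  exact le_of_isoTuples hx

/-- A particular form with antisymmetrisation the symplectic form. -/
def M0 (m : ℕ) (F : Type*) [Field F] : Matrix (Fin m ⊕ Fin m) (Fin m ⊕ Fin m) F := fromBlocks 0 1 0 0

theorem M0_mem : (M0 m F)ᵀ - M0 m F = J (Fin m) F := by
  rw [M0, fromBlocks_transpose, transpose_zero, transpose_one]
  ext (i | i) (j | j) <;> simp [J, Matrix.sub_apply]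

theorem M0_stdTuple {k : ℕ} (hk : k ≤ m) (i : Fin k) : M0 m F *ᵥ stdTuple F hk i = 0 := by
  ext (r | r) <;> simp [M0, stdTuple]

variable [Fintype F]

/-- Symmetric matrices with prescribed zero columns. -/
theorem card_symmetric_zero {α : Type*} [Fintype α] (s : Finset α) :
    Nat.card {S : Matrix α α F // Sᵀ = S ∧ ∀ i ∈ s, ∀ j, S j i = 0} =
      Fintype.card F ^ (Fintype.card α - s.card + 1).choose 2 := by
  classical
  have h0 : Nat.card {S : Matrix {a : α // a ∉ s} {a : α // a ∉ s} F // Sᵀ = S} =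
      Fintype.card F ^ (Fintype.card α - s.card + 1).choose 2 := by
    rw [Nat.card_congr (symmEquiv _ F), Nat.card_fun, Nat.card_eq_fintype_card, Nat.card_eq_fintype_card, Sym2.card,
      Fintype.card_subtype_compl, Fintype.card_coe]
  rw [← h0]
  refine Nat.card_congr
    { toFun := fun S => ⟨S.1.submatrix Subtype.val Subtype.val, ?_⟩
      invFun := fun T => ⟨Matrix.of fun a b => if h : a ∉ s ∧ b ∉ s then T.1 ⟨a, h.1⟩ ⟨b, h.2⟩ else 0, ?_, ?_⟩
      left_inv := fun S => ?_
      right_inv := fun T => ?_ }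
  · rw [transpose_submatrix, S.2.1]
  · ext a b
    have := fun x y => congrFun (congrFun T.2 x) y
    simp only [transpose_apply, of_apply] at this ⊢
    by_cases h : a ∉ s ∧ b ∉ s
    · rw [dif_pos h, dif_pos h.symm, this]
    · rw [dif_neg h, dif_neg fun h' => h h'.symm]
  · intro i hi j
    simp [hi]
  · refine Subtype.ext (Matrix.ext fun a b => ?_)
    by_cases h : a ∉ s ∧ b ∉ s
    · simp [h.1, h.2]
    · simp only [of_apply, dif_neg h]
      rcases not_and_or.1 h with h' | h'
      · rw [not_not] at h'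
        have := congrFun (congrFun S.2.1 a) b
        rw [transpose_apply] at this
        rw [← this, S.2.2 a h' b]
      · rw [S.2.2 b (not_not.1 h') a]
  · exact Subtype.ext (Matrix.ext fun a b => by simp [a.2, b.2])

theorem card_kill {W : Submodule F (ι → F)} (hW : IsIso W) :
    Nat.card {M : Aff m F // ∀ w ∈ W, M.1 *ᵥ w = 0} =
      Fintype.card F ^ (2 * m - finrank F W + 1).choose 2 := by
  classical
  set k := finrank F W with hk
  obtain ⟨x, hx, hxW⟩ := isIso_tuple hW hk.symm
  have hkm : k ≤ m := le_of_isoTuples hx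
  have hs := stdTuple_mem (F := F) hkm
  obtain ⟨A, hA⟩ := witt_matrix _ _ hs.1 hx.1 (fun i j => by rw [hs.2, hx.2])
  have hkill : ∀ M : Matrix ι ι F,
      (∀ w ∈ W, M *ᵥ w = 0) ↔ ∀ i, (M * A.1) *ᵥ stdTuple F hkm i = 0 := by
    intro M
    simp only [← mulVec_mulVec, hA]
    constructor
    · exact fun h i => h _ (hxW ▸ Submodule.subset_span ⟨i, rfl⟩)
    · intro h w hw
      have : Submodule.span F (Set.range x) ≤ LinearMap.ker M.mulVecLin :=
        Submodule.span_le.2 (Set.range_subset_iff.2 fun i => LinearMap.mem_ker.2 (h i))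
      exact LinearMap.mem_ker.1 (this (hxW.symm ▸ hw))
  have hconj : ∀ (B : symplecticGroup (Fin m) F) (M : Matrix ι ι F), Mᵀ - M = J (Fin m) F →
      (B.1ᵀ * M * B.1)ᵀ - B.1ᵀ * M * B.1 = J (Fin m) F := by
    intro B M hM
    rw [transpose_mul, transpose_mul, transpose_transpose, ← mul_assoc, ← sub_mul, ← mul_sub, hM,
      SymplecticGroup.mem_iff'.1 B.2]
  have hAA : A.1 * A⁻¹.1 = 1 := by rw [← Submonoid.coe_mul, mul_inv_cancel, Submonoid.coe_one]
  have hAA' : A⁻¹.1 * A.1 = 1 := by rw [← Submonoid.coe_mul, inv_mul_cancel, Submonoid.coe_one]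
  let s : Finset ι := Finset.univ.image fun i : Fin k => Sum.inl (Fin.castLE hkm i)
  have hscard : s.card = k := by
    show (Finset.univ.image (Sum.inl ∘ Fin.castLE hkm)).card = k
    rw [Finset.card_image_of_injective _ (Sum.inl_injective.comp (Fin.castLE_injective hkm)), Finset.card_univ,
      Fintype.card_fin]
  have hcol : ∀ M : Matrix ι ι F,
      (∀ i, (M - M0 m F) *ᵥ stdTuple F hkm i = 0) ↔ ∀ i ∈ s, ∀ j, (M - M0 m F) j i = 0 := by
    intro M
    simp only [s, Finset.mem_image, Finset.mem_univ, true_and, forall_exists_index, forall_apply_eq_imp_iff]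
    refine forall_congr' fun i => ?_
    rw [funext_iff]
    refine forall_congr' fun j => ?_
    rw [stdTuple, mulVec_single_one]
    rfl
  have hn : Fintype.card ι = 2 * m := by rw [Fintype.card_sum, Fintype.card_fin]; omega
  have h0 := card_symmetric_zero (F := F) s
  rw [hscard, hn] at h0
  rw [← h0]
  refine Nat.card_congr
    { toFun := fun M => ⟨A.1ᵀ * M.1.1 * A.1 - M0 m F, ?_, ?_⟩
      invFun := fun S => ⟨⟨A⁻¹.1ᵀ * (S.1 + M0 m F) * A⁻¹.1, hconj A⁻¹ _ ?_⟩, ?_⟩
      left_inv := fun M => ?_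
      right_inv := fun S => ?_ }
  · rw [transpose_sub, ← sub_eq_zero]
    have h1 := sub_eq_zero.2 ((hconj A _ M.1.2).trans (M0_mem (m := m) (F := F)).symm)
    rw [← h1]
    abel
  · rw [← hcol]
    intro i
    rw [sub_mulVec, M0_stdTuple, sub_zero, mul_assoc, ← mulVec_mulVec, (hkill _).1 M.2 i, mulVec_zero]
  · rw [transpose_add, S.2.1, ← M0_mem (m := m) (F := F)]
    abel
  · rw [hkill]
    intro i
    show (A⁻¹.1ᵀ * (S.1 + M0 m F) * A⁻¹.1 * A.1) *ᵥ _ = 0
    rw [mul_assoc _ A⁻¹.1, hAA', mul_one, ← mulVec_mulVec, add_mulVec, M0_stdTuple, add_zero]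
    have := (hcol (S.1 + M0 m F)).2 (by simpa using S.2.2) i
    rw [add_sub_cancel_right] at this
    rw [this, mulVec_zero]
  · refine Subtype.ext (Subtype.ext ?_)
    show A⁻¹.1ᵀ * (A.1ᵀ * M.1.1 * A.1 - M0 m F + M0 m F) * A⁻¹.1 = M.1.1
    rw [sub_add_cancel, ← mul_assoc, ← mul_assoc, ← transpose_mul, hAA, transpose_one, one_mul, mul_assoc, hAA, mul_one]
  · refine Subtype.ext ?_
    show A.1ᵀ * (A⁻¹.1ᵀ * (S.1 + M0 m F) * A⁻¹.1) * A.1 - M0 m F = S.1
    rw [← mul_assoc, ← mul_assoc, ← transpose_mul, hAA', transpose_one, one_mul, mul_assoc, hAA', mul_one,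
      add_sub_cancel_right]

theorem card_iso_mul (k : ℕ) :
    Nat.card {W : Submodule F (ι → F) // IsIso W ∧ finrank F W = k} *
        ∏ i ∈ Finset.range k, (Fintype.card F ^ k - Fintype.card F ^ i) =
      ∏ i ∈ Finset.range k, (Fintype.card F ^ (2 * m - i) - Fintype.card F ^ i) := by
  classical
  rw [← card_isoTuples (m := m) rfl k]
  let X := fun W : {W : Submodule F (ι → F) // IsIso W ∧ finrank F W = k} =>
    {s : Fin k → W.1 // LinearIndependent F s}
  have hX : ∀ W, Nat.card (X W) = ∏ i ∈ Finset.range k, (Fintype.card F ^ k - Fintype.card F ^ i) := by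
    intro W
    rw [card_linearIndependent (K := F) (V := W.1) (k := k) W.2.2.ge, W.2.2,
      Fin.prod_univ_eq_prod_range fun i => Fintype.card F ^ k - Fintype.card F ^ i]
  let f : (Σ W, X W) → isoTuples m F k := fun z => ⟨fun i => ((z.2.1 i : z.1.1) : ι → F),
    z.2.2.map' z.1.1.subtype z.1.1.ker_subtype, fun i j => z.1.2.1 _ (z.2.1 i).2 _ (z.2.1 j).2⟩
  have hspan : ∀ z, Submodule.span F (Set.range (f z).1) = z.1.1 := by
    intro z
    refine Submodule.eq_of_le_of_finrank_eq (Submodule.span_le.2 (Set.range_subset_iff.2 fun i => (z.2.1 i).2)) ?_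
    rw [finrank_span_eq_card (f z).2.1, z.1.2.2, Fintype.card_fin]
  have hf : Function.Bijective f := by
    refine ⟨fun z z' e => ?_, fun x => ?_⟩
    · obtain ⟨W, s, hs⟩ := z
      obtain ⟨W', s', hs'⟩ := z'
      have hW : W = W' := by
        have h := hspan ⟨W, s, hs⟩
        rw [e, hspan] at h
        exact (Subtype.ext h).symm
      subst hW
      have e' := congrArg Subtype.val e
      simp only [f] at e'
      obtain rfl : s = s' := funext fun i => Subtype.ext (congrFun e' i)
      rfl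
    · refine ⟨⟨⟨Submodule.span F (Set.range x.1), fun u hu v hv => ?_, by
          rw [finrank_span_eq_card x.2.1, Fintype.card_fin]⟩,
        fun i => ⟨x.1 i, Submodule.subset_span ⟨i, rfl⟩⟩,
        LinearIndependent.of_comp (Submodule.subtype _) x.2.1⟩, rfl⟩
      have := span_le_orthSpan x.2.2 hv
      rw [← sympBilin_apply]
      exact this u hu
  have := Fintype.ofFinite {W : Submodule F (ι → F) // IsIso W ∧ finrank F W = k}
  rw [← Nat.card_eq_of_bijective f hf, Nat.card_sigma]
  simp only [hX, Finset.sum_const, Finset.card_univ, ← Nat.card_eq_fintype_card, smul_eq_mul]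

theorem sum_mu_le (K : Submodule F (ι → F)) [Fintype (Submodule F (ι → F))] [DecidablePred (· ≤ K)] :
    ∑ W ∈ Finset.univ.filter (· ≤ K), mu (Nat.card F) (finrank F W) = if K = ⊥ then 1 else 0 := by
  classical
  have := Fintype.ofFinite (Submodule F K)
  have h := muSum_eq (F := F) (finrank F K) K rfl
  rw [muSum, finsum_eq_sum_of_fintype] at h
  rw [show (if K = ⊥ then (1 : ℤ) else 0) = if finrank F K = 0 then 1 else 0 by
    simp only [Submodule.finrank_eq_zero], ← h]
  refine Finset.sum_bij' (fun W _ => W.comap K.subtype) (fun W _ => W.map K.subtype) (fun _ _ => Finset.mem_univ _)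
    (fun W _ => Finset.mem_filter.2 ⟨Finset.mem_univ _, Submodule.map_subtype_le _ _⟩) (fun W hW => ?_)
    (fun W _ => Submodule.comap_map_eq_of_injective (Submodule.injective_subtype _) W) (fun W hW => ?_)
  · exact (Submodule.map_comap_subtype _ _).trans (inf_eq_right.2 (Finset.mem_filter.1 hW).2)
  · rw [← Submodule.finrank_map_subtype_eq K (W.comap K.subtype),
      (Submodule.map_comap_subtype _ _).trans (inf_eq_right.2 (Finset.mem_filter.1 hW).2)]

/-- The inclusion-exclusion formula. -/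
theorem card_aff_det (m : ℕ) :
    (Nat.card {M : Aff m F // M.1.det ≠ 0} : ℤ) = ∑ k ∈ Finset.range (m + 1),
      mu (Fintype.card F) k * Nat.card {W : Submodule F (Fin m ⊕ Fin m → F) // IsIso W ∧ finrank F W = k} *
        (Fintype.card F : ℤ) ^ (2 * m - k + 1).choose 2 := by
  classical
  have := Fintype.ofFinite (Aff m F)
  have := Fintype.ofFinite (Submodule F (Fin m ⊕ Fin m → F))
  have hker : ∀ M : Aff m F, M.1.det ≠ 0 ↔ LinearMap.ker M.1.mulVecLin = ⊥ := fun M => by
    rw [Matrix.ker_mulVecLin_eq_bot_iff, ne_eq, ← Matrix.exists_mulVec_eq_zero_iff, not_exists]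
    exact forall_congr' fun v => by tauto
  calc (Nat.card {M : Aff m F // M.1.det ≠ 0} : ℤ)
      = ∑ M : Aff m F, ∑ W : Submodule F (Fin m ⊕ Fin m → F),
          if W ≤ LinearMap.ker M.1.mulVecLin then mu (Fintype.card F) (finrank F W) else 0 := by
        rw [Nat.card_eq_fintype_card, Fintype.card_subtype, Finset.natCast_card_filter]
        refine Finset.sum_congr rfl fun M _ => ?_
        rw [← Finset.sum_filter, ← Nat.card_eq_fintype_card (α := F), sum_mu_le]
        exact if_congr (hker M) rfl rfl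
    _ = ∑ W : Submodule F (Fin m ⊕ Fin m → F), if IsIso W then mu (Fintype.card F) (finrank F W) *
          (Fintype.card F : ℤ) ^ (2 * m - finrank F W + 1).choose 2 else 0 := by
        rw [Finset.sum_comm]
        refine Finset.sum_congr rfl fun W _ => ?_
        rw [← Finset.sum_filter, Finset.sum_const, nsmul_eq_mul, ← Fintype.card_subtype, ← Nat.card_eq_fintype_card]
        rw [Nat.card_congr (Equiv.subtypeEquivRight (q := fun M : Aff m F => ∀ w ∈ W, M.1 *ᵥ w = 0)
          fun M => by simp [SetLike.le_def])]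
        by_cases hW : IsIso W
        · rw [if_pos hW, card_kill hW, Nat.cast_pow, mul_comm]
        · rw [if_neg hW]
          have : IsEmpty {M : Aff m F // ∀ w ∈ W, M.1 *ᵥ w = 0} := ⟨fun M => hW (isIso_of_kill M.1 M.2)⟩
          simp
    _ = _ := by
        rw [← Finset.sum_filter, ← Finset.sum_fiberwise_of_maps_to (g := fun W : Submodule F (Fin m ⊕ Fin m → F) => finrank F W)
          (t := Finset.range (m + 1)) (fun W hW => Finset.mem_range.2 (Nat.lt_succ_of_le
            (isIso_le (Finset.mem_filter.1 hW).2)))]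
        refine Finset.sum_congr rfl fun k _ => ?_
        rw [Nat.card_eq_fintype_card, Fintype.card_subtype,
          Finset.sum_congr rfl (g := fun _ => mu (Fintype.card F) k * (Fintype.card F : ℤ) ^ (2 * m - k + 1).choose 2)
            (fun W hW => by rw [(Finset.mem_filter.1 hW).2]),
          Finset.sum_const, Finset.filter_filter, nsmul_eq_mul]
        ring

/-- The normalised number of fixed point free elements is the coefficient of `serE * serC`. -/
theorem card_fixFree_div (m : ℕ) :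
    (Nat.card {g : symplecticGroup (Fin m) F // ((g : Matrix (Fin m ⊕ Fin m) (Fin m ⊕ Fin m) F) - 1).det ≠ 0} : ℚ) /
        Nat.card (symplecticGroup (Fin m) F) =
      PowerSeries.coeff m (serE (Fintype.card F) * serC (Fintype.card F)) := by
  set q := Fintype.card F with hqdef
  have hq : 1 < q := Fintype.one_lt_card
  have h := congrArg (fun z : ℤ => (z : ℚ)) (card_aff_det (F := F) m)
  simp only [Int.cast_natCast, Int.cast_sum, Int.cast_mul, mu, Int.cast_pow, Int.cast_neg, Int.cast_one] at h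
  rw [card_fixFree_eq, h, Finset.sum_div, mul_comm (serE q), PowerSeries.coeff_mul,
    Finset.Nat.sum_antidiagonal_eq_sum_range_succ_mk]
  refine Finset.sum_congr rfl fun k hk => ?_
  have hkm : k ≤ m := Nat.lt_succ_iff.1 (Finset.mem_range.1 hk)
  obtain ⟨j, rfl⟩ : ∃ j, m = k + j := ⟨m - k, by omega⟩
  rw [Nat.add_sub_cancel_left, serC, serE, PowerSeries.coeff_mk, PowerSeries.coeff_mk]
  have hA := card_iso_mul (F := F) (m := k + j) k
  rw [← hqdef] at hA
  set R := ∏ i ∈ Finset.range k, (q ^ (2 * (k + j - i)) - 1) with hR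
  have hkk : ∏ i ∈ Finset.range k, (q ^ k - q ^ i) = q ^ k.choose 2 * allProd q k := by
    rw [allProd, Nat.choose_two_right, ← Finset.sum_range_id, ← Finset.prod_pow_eq_pow_sum,
      ← Finset.prod_range_reflect (fun i => q ^ (i + 1) - 1), ← Finset.prod_mul_distrib]
    refine Finset.prod_congr rfl fun i hi => ?_
    rw [Finset.mem_range] at hi
    rw [Nat.mul_sub, mul_one, ← pow_add]
    congr 2
    omega
  rw [prod_isoTuples q (k + j) k (by omega), ← hR, hkk] at hA
  have hq0 : (q : ℚ) ≠ 0 := Nat.cast_ne_zero.2 (by omega)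
  have hA' : (Nat.card {W : Submodule F (Fin (k + j) ⊕ Fin (k + j) → F) // IsIso W ∧ finrank F W = k} : ℚ) *
      allProd q k = R := by
    have h1 : ((Nat.card {W : Submodule F (Fin (k + j) ⊕ Fin (k + j) → F) // IsIso W ∧ finrank F W = k} *
        (q ^ k.choose 2 * allProd q k) : ℕ) : ℚ) = ((q ^ k.choose 2 * R : ℕ) : ℚ) := congrArg _ hA
    push_cast at h1
    exact mul_left_cancel₀ (pow_ne_zero (k.choose 2) hq0) (by linear_combination h1)
  have hS : (Nat.card (symplecticGroup (Fin (k + j)) F) : ℚ) = (q : ℚ) ^ (k + j) ^ 2 * (evenProd q j * R) := by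
    rw [card_symplecticGroup (m := k + j) hqdef.symm, prod_split q (k + j) k (by omega), Nat.add_sub_cancel_left,
      ← hR, evenProd]
    push_cast
    ring
  have hP0 : (evenProd q j : ℚ) ≠ 0 := Nat.cast_ne_zero.2 (evenProd_pos hq j).ne'
  have hQ0 : (allProd q k : ℚ) ≠ 0 := Nat.cast_ne_zero.2 (allProd_pos hq k).ne'
  have hR0 : (R : ℚ) ≠ 0 := Nat.cast_ne_zero.2 (Finset.prod_pos fun i hi => Nat.sub_pos_of_lt
    (Nat.one_lt_pow (by have := Finset.mem_range.1 hi; omega) hq)).ne'
  have hexp : (q : ℚ) ^ k.choose 2 * (q : ℚ) ^ (2 * (k + j) - k + 1).choose 2 =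
      (q : ℚ) ^ (k + j) ^ 2 * (q : ℚ) ^ (j ^ 2 + j) := by
    rw [← pow_add, ← pow_add]
    congr 1
    rw [show 2 * (k + j) - k + 1 = (k + 2 * j) + 1 by omega]
    have e1 : ∀ n : ℕ, 2 * (n + 1).choose 2 = (n + 1) * n := fun n => by
      rw [Nat.choose_two_right, Nat.add_sub_cancel, Nat.mul_div_cancel']
      exact (Nat.even_mul_succ_self n).two_dvd.trans (dvd_of_eq (mul_comm _ _))
    have e2 := e1 (k + 2 * j)
    rcases k with - | k
    · simp only [Nat.choose_zero_succ, zero_add] at e2 ⊢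
      nlinarith
    have e3 := e1 k
    nlinarith
  rw [hS, ← hA']
  have hk0 : (Nat.card {W : Submodule F (Fin (k + j) ⊕ Fin (k + j) → F) // IsIso W ∧ finrank F W = k} : ℚ) ≠ 0 :=
    fun h0 => hR0 (by rw [← hA', h0, zero_mul])
  field_simp
  linear_combination hexp

end CfsgLib.SpUnipCount
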