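import Cfsg.Agent.Lib.Sp.Decomp
import Cfsg.Agent.Lib.SpUnipCount.FixFree

/-!
The number of unipotent elements of the symplectic group, by Fitting decomposition.
-/

set_option autoImplicit false

namespace CfsgLib.SpUnipCount

open Cfsg Module
open CfsgLib.Sp
open LinearMap (BilinForm)

variable {F : Type*} [Field F] {V : Type*} [AddCommGroup V] [Module F V]

/-- `g - 1` as an endomorphism. -/
def disp (g : V ≃ₗ[F] V) : Module.End F V := g.toLinearMap - 1

theorem disp_apply (g : V ≃ₗ[F] V) (v : V) : disp g v = g v - v := rfl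

/-- The number of unipotent isometries. -/
noncomputable def uCount (B : BilinForm F V) : ℕ := Nat.card {g : isom B // IsNilpotent (disp g.1)}

/-- The number of isometries without fixed points. -/
noncomputable def fCount (B : BilinForm F V) : ℕ := Nat.card {g : isom B // Function.Injective (disp g.1)}

theorem disp_conj {V' : Type*} [AddCommGroup V'] [Module F V'] (e : V' ≃ₗ[F] V) (g : V' ≃ₗ[F] V') :
    disp (e.symm.trans (g.trans e)) = e.conjAlgEquiv F (disp g) := LinearMap.ext fun x => by
  simp [disp_apply, LinearEquiv.conjAlgEquiv_apply]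

theorem counts_congr {V' : Type*} [AddCommGroup V'] [Module F V'] {B : BilinForm F V} {B' : BilinForm F V'}
    (e : V' ≃ₗ[F] V) (h : ∀ u v, B (e u) (e v) = B' u v) : uCount B' = uCount B ∧ fCount B' = fCount B := by
  constructor
  · refine Nat.card_congr ((isomCongr e h).toEquiv.subtypeEquiv fun g => ?_)
    show IsNilpotent (disp g.1) ↔ IsNilpotent (disp (e.symm.trans (g.1.trans e)))
    rw [disp_conj]
    exact (IsNilpotent.map_iff (e.conjAlgEquiv F).injective).symm
  · refine Nat.card_congr ((isomCongr e h).toEquiv.subtypeEquiv fun g => ?_)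
    show Function.Injective (disp g.1) ↔ Function.Injective (disp (e.symm.trans (g.1.trans e)))
    rw [disp_conj]
    constructor
    · intro hi x y hxy
      simp only [LinearEquiv.conjAlgEquiv_apply, LinearMap.coe_comp, LinearEquiv.coe_coe, Function.comp_apply] at hxy
      exact e.symm.injective (hi (e.injective hxy))
    · intro hi x y hxy
      refine e.injective (hi ?_)
      simp [LinearEquiv.conjAlgEquiv_apply, hxy]

variable [FiniteDimensional F V] {B : BilinForm F V}

theorem nondeg_of_sepLeft (hA : B.IsAlt) (hB : LinearMap.SeparatingLeft B) : B.Nondegenerate :=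
  ⟨hB, fun y hy => hB y fun x => by rw [alt_flip hA, hy x, neg_zero]⟩

theorem isCompl_of_disjoint (hA : B.IsAlt) (hB : LinearMap.SeparatingLeft B) {W : Submodule F V}
    (h : Disjoint W (B.orthogonal W)) : IsCompl W (B.orthogonal W) :=
  ⟨h, codisjoint_iff.2 (Submodule.eq_top_of_finrank_eq (by
    have h1 := Submodule.finrank_sup_add_finrank_inf_eq W (B.orthogonal W)
    rw [disjoint_iff.1 h, finrank_bot, add_zero,
      LinearMap.BilinForm.finrank_orthogonal (nondeg_of_sepLeft hA hB)] at h1
    have := Submodule.finrank_le W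
    omega))⟩

theorem restrict_sepLeft (hA : B.IsAlt) {W : Submodule F V} (h : Disjoint W (B.orthogonal W)) :
    LinearMap.SeparatingLeft (B.restrict W) := fun x hx => by
  refine Subtype.ext (Submodule.disjoint_def.1 h x x.2 fun w hw => ?_)
  show B w x = 0
  rw [alt_flip hA, show B (x : V) w = 0 from hx ⟨w, hw⟩, neg_zero]

theorem restrict_orth_sepLeft (hA : B.IsAlt) (hB : LinearMap.SeparatingLeft B) {W : Submodule F V}
    (h : IsCompl W (B.orthogonal W)) : LinearMap.SeparatingLeft (B.restrict (B.orthogonal W)) := fun x hx => by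
  refine Subtype.ext (hB x fun y => ?_)
  obtain ⟨w, hw, u, hu, rfl⟩ := Submodule.mem_sup.1 (h.sup_eq_top ▸ Submodule.mem_top (x := y))
  rw [map_add, alt_flip hA, show B w (x : V) = 0 from x.2 _ hw, neg_zero, zero_add]
  exact hx ⟨u, hu⟩

/-- The generalised fixed space. -/
noncomputable def genKer (g : V ≃ₗ[F] V) : Submodule F V := LinearMap.ker (disp g ^ finrank F V)

theorem commute_disp (g : V ≃ₗ[F] V) : Commute g.symm.toLinearMap (disp g) := LinearMap.ext fun x => by
  simp [Module.End.mul_apply, disp_apply, map_sub]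

theorem disp_pow_symm (g : V ≃ₗ[F] V) (k : ℕ) (x : V) : (disp g ^ k) (g.symm x) = g.symm ((disp g ^ k) x) :=
  (LinearMap.congr_fun ((commute_disp g).pow_right k).eq x).symm

theorem apply_disp_pow {g : V ≃ₗ[F] V} (hg : g ∈ isom B) :
    ∀ (k : ℕ) (a : V), (disp g ^ k) a = 0 → ∀ b, B a ((disp g ^ k) b) = 0 := by
  intro k
  induction k with
  | zero =>
    intro a ha b
    rw [pow_zero, Module.End.one_apply] at ha
    rw [ha, map_zero, LinearMap.zero_apply]
  | succ k ih =>
    intro a ha b
    rw [pow_succ', Module.End.mul_apply, disp_apply, map_sub]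
    have h1 : B a (g ((disp g ^ k) b)) = B (g.symm a) ((disp g ^ k) b) := by
      rw [← hg (g.symm a), g.apply_symm_apply]
    rw [h1, ← LinearMap.sub_apply, ← map_sub]
    refine ih _ ?_ b
    have h2 : g.symm a - a = -(g.symm (disp g a)) := by rw [disp_apply, map_sub, g.symm_apply_apply, neg_sub]
    rw [h2, map_neg, disp_pow_symm, ← Module.End.mul_apply (disp g ^ k), ← pow_succ, ha, map_zero, neg_zero]

theorem genKer_mem {g : V ≃ₗ[F] V} (v : V) : v ∈ genKer g ↔ g v ∈ genKer g := by
  rw [genKer, LinearMap.mem_ker, LinearMap.mem_ker]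
  have h := disp_pow_symm g (finrank F V) (g v)
  rw [g.symm_apply_apply] at h
  rw [h]
  exact ⟨fun h' => g.symm.map_eq_zero_iff.1 h', fun h' => by rw [h', map_zero]⟩

theorem genKer_orth (hA : B.IsAlt) (hB : LinearMap.SeparatingLeft B) {g : V ≃ₗ[F] V} (hg : g ∈ isom B) :
    B.orthogonal (genKer g) = LinearMap.range (disp g ^ finrank F V) := by
  refine (Submodule.eq_of_le_of_finrank_eq ?_ ?_).symm
  · rintro _ ⟨b, rfl⟩ a ha
    exact apply_disp_pow hg _ a ha b
  · rw [LinearMap.BilinForm.finrank_orthogonal (nondeg_of_sepLeft hA hB)]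
    have := (disp g ^ finrank F V).finrank_range_add_finrank_ker
    rw [genKer]
    omega

theorem genKer_compl (hA : B.IsAlt) (hB : LinearMap.SeparatingLeft B) {g : V ≃ₗ[F] V} (hg : g ∈ isom B) :
    IsCompl (genKer g) (B.orthogonal (genKer g)) := by
  refine isCompl_of_disjoint hA hB (Submodule.disjoint_def.2 fun x hx hx' => ?_)
  rw [genKer_orth hA hB hg] at hx'
  obtain ⟨y, rfl⟩ := hx'
  have h1 : y ∈ LinearMap.ker (disp g ^ (finrank F V + finrank F V)) := by
    rw [LinearMap.mem_ker, pow_add, Module.End.mul_apply]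
    exact hx
  rw [Module.End.ker_pow_eq_ker_pow_finrank_of_le (Nat.le_add_left _ _)] at h1
  exact h1

theorem restrict_pow (g : V ≃ₗ[F] V) (W : Submodule F V) (h : ∀ v, v ∈ W ↔ g v ∈ W) (k : ℕ) (x : W) :
    (((disp (restrictEquiv g W h)) ^ k) x : V) = (disp g ^ k) x := by
  induction k with
  | zero => simp
  | succ k ih =>
    rw [pow_succ', pow_succ', Module.End.mul_apply, Module.End.mul_apply, ← ih, disp_apply, disp_apply]
    rfl

theorem genKer_eq_iff (hA : B.IsAlt) (hB : LinearMap.SeparatingLeft B) {W : Submodule F V}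
    (hc : IsCompl W (B.orthogonal W)) (g : isomStab B W) :
    genKer g.1 = W ↔ IsNilpotent (disp (isomStabEquiv B hA W hc g).1.1) ∧
      Function.Injective (disp (isomStabEquiv B hA W hc g).2.1) := by
  set g' := g.1 with hg'
  have hU := mem_orth_of_stab g.2
  show genKer g' = W ↔ IsNilpotent (disp (restrictEquiv g' W g.2.2)) ∧
    Function.Injective (disp (restrictEquiv g' (B.orthogonal W) hU))
  constructor
  · intro h
    refine ⟨⟨finrank F V, LinearMap.ext fun x => Subtype.ext ?_⟩, (injective_iff_map_eq_zero _).2 fun x hx => ?_⟩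
    · rw [restrict_pow]
      exact LinearMap.mem_ker.1 (h.symm ▸ x.2 : (x : V) ∈ genKer g')
    · refine Subtype.ext (Submodule.disjoint_def.1 hc.disjoint (x : V) ?_ x.2)
      have hx' : disp g' (x : V) = 0 := congrArg Subtype.val hx
      have hmem : (x : V) ∈ genKer g' := by
        rcases Nat.eq_zero_or_pos (finrank F V) with h0 | h0
        · rw [finrank_zero_iff.1 h0 |>.elim (x : V) 0]; exact zero_mem _
        · obtain ⟨n, hn⟩ : ∃ n, finrank F V = n + 1 := ⟨finrank F V - 1, by omega⟩
          rw [genKer, LinearMap.mem_ker, hn, pow_succ, Module.End.mul_apply, hx', map_zero]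
      rwa [h] at hmem
  · rintro ⟨hn, hi⟩
    refine le_antisymm (fun x hx => ?_) fun x hx => ?_
    swap
    · have h0 : ((disp (restrictEquiv g' W g.2.2)) ^ finrank F V) = 0 := by
        refine pow_eq_zero_of_le (Submodule.finrank_le W) (LinearMap.ker_eq_top.1 ?_)
        obtain ⟨k, hk⟩ := hn
        rw [eq_top_iff, ← LinearMap.ker_eq_top.2 hk]
        exact Module.End.ker_pow_le_ker_pow_finrank _ k
      rw [genKer, LinearMap.mem_ker, ← restrict_pow g' W g.2.2 _ ⟨x, hx⟩, h0]
      rfl
    · obtain ⟨w, hw, u, hu, rfl⟩ := Submodule.mem_sup.1 (hc.sup_eq_top ▸ Submodule.mem_top (x := x))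
      rw [genKer, LinearMap.mem_ker, map_add] at hx
      have h1 : (disp g' ^ finrank F V) w ∈ W := by
        rw [← restrict_pow g' W g.2.2 _ ⟨w, hw⟩]; exact Subtype.mem _
      have h2 : (disp g' ^ finrank F V) u ∈ B.orthogonal W := by
        rw [← restrict_pow g' _ hU _ ⟨u, hu⟩]; exact Subtype.mem _
      have h3 : (disp g' ^ finrank F V) u = 0 := by
        refine Submodule.disjoint_def.1 hc.disjoint _ ?_ h2
        rw [eq_neg_of_add_eq_zero_right hx]
        exact neg_mem h1
      rw [← restrict_pow g' _ hU _ ⟨u, hu⟩, ZeroMemClass.coe_eq_zero] at h3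
      have h4 : (⟨u, hu⟩ : B.orthogonal W) = 0 := by
        have hinj : Function.Injective ((disp (restrictEquiv g' (B.orthogonal W) hU)) ^ finrank F V) := by
          rw [Module.End.coe_pow]
          exact hi.iterate _
        exact hinj (h3.trans (map_zero _).symm)
      rw [show u = 0 from congrArg Subtype.val h4, add_zero]
      exact hw

/-- The isometries with a given generalised fixed space. -/
theorem card_fibre (hA : B.IsAlt) (hB : LinearMap.SeparatingLeft B) (W : Submodule F V)
    [Decidable (IsCompl W (B.orthogonal W))] :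
    Nat.card {g : isom B // genKer g.1 = W} =
      if IsCompl W (B.orthogonal W) then uCount (B.restrict W) * fCount (B.restrict (B.orthogonal W)) else 0 := by
  split_ifs with hc
  · rw [uCount, fCount, ← Nat.card_prod]
    let e : {g : isom B // genKer g.1 = W} ≃ {g : isomStab B W // genKer g.1 = W} :=
      { toFun := fun g => ⟨⟨g.1.1, g.1.2, fun v => by
          have := genKer_mem (g := g.1.1) v
          rwa [g.2] at this⟩, g.2⟩
        invFun := fun g => ⟨⟨g.1.1, g.1.2.1⟩, g.2⟩
        left_inv := fun _ => rfl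
        right_inv := fun _ => rfl }
    refine Nat.card_congr (e.trans (((isomStabEquiv B hA W hc).toEquiv.subtypeEquiv
      (q := fun z : isom (B.restrict W) × isom (B.restrict (B.orthogonal W)) =>
        IsNilpotent (disp z.1.1) ∧ Function.Injective (disp z.2.1)) fun g => genKer_eq_iff hA hB hc g).trans
      (Equiv.subtypeProdEquivProd (p := fun a : isom (B.restrict W) => IsNilpotent (disp a.1))
        (q := fun b : isom (B.restrict (B.orthogonal W)) => Function.Injective (disp b.1)))))
  · have : IsEmpty {g : isom B // genKer g.1 = W} := ⟨fun g => hc (g.2 ▸ genKer_compl hA hB g.1.2)⟩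
    exact Nat.card_of_isEmpty

section Std

variable {m : ℕ}

/-- The extension by zero of the first hyperbolic pairs. -/
def firstPairs (F : Type*) [Field F] (k j : ℕ) :
    (Fin k ⊕ Fin k → F) →ₗ[F] (Fin (k + j) ⊕ Fin (k + j) → F) where
  toFun u := Sum.elim (Fin.append (u ∘ Sum.inl) 0) (Fin.append (u ∘ Sum.inr) 0)
  map_add' u v := by
    ext (i | i) <;> refine Fin.addCases (fun a => ?_) (fun a => ?_) i <;> simp
  map_smul' c u := by
    ext (i | i) <;> refine Fin.addCases (fun a => ?_) (fun a => ?_) i <;> simp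

theorem sympForm_firstPairs (k j : ℕ) (u v : Fin k ⊕ Fin k → F) :
    sympForm (k + j) F (firstPairs F k j u) (firstPairs F k j v) = sympForm k F u v := by
  simp [sympForm_eq_sum, firstPairs, Fin.sum_univ_add]

theorem firstPairs_injective (k j : ℕ) : Function.Injective (firstPairs F k j) := fun u v h => by
  ext (i | i)
  · simpa [firstPairs] using congrFun h (Sum.inl (Fin.castAdd j i))
  · simpa [firstPairs] using congrFun h (Sum.inr (Fin.castAdd j i))

theorem finrank_std : finrank F (Fin m ⊕ Fin m → F) = 2 * m := by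
  simp [two_mul]

/-- The nondegenerate subspaces of a given dimension form one orbit. -/
theorem card_nondeg_mul [Finite F] (k j : ℕ) :
    Nat.card {W : Submodule F (Fin (k + j) ⊕ Fin (k + j) → F) //
        IsCompl W ((sympBilin (k + j) F).orthogonal W) ∧ finrank F W = 2 * k} *
      (Nat.card (Matrix.symplecticGroup (Fin k) F) * Nat.card (Matrix.symplecticGroup (Fin j) F)) =
      Nat.card (Matrix.symplecticGroup (Fin (k + j)) F) := by
  set B := sympBilin (k + j) F with hBdef
  have hA : B.IsAlt := sympBilin_isAlt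
  have hB : LinearMap.SeparatingLeft B := sympBilin_separatingLeft
  set W0 := LinearMap.range (firstPairs F k j) with hW0
  have hW0d : finrank F W0 = 2 * k := by
    rw [hW0, LinearMap.finrank_range_of_inj (firstPairs_injective k j), finrank_std]
  have hW0c : IsCompl W0 (B.orthogonal W0) := by
    refine isCompl_of_disjoint hA hB (Submodule.disjoint_def.2 ?_)
    rintro _ ⟨u, rfl⟩ hu
    rw [show u = 0 from sympBilin_separatingLeft u fun v => ?_, map_zero]
    rw [sympBilin_apply, sympForm_flip, neg_eq_zero, ← sympForm_firstPairs k j, ← sympBilin_apply]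
    exact hu _ ⟨v, rfl⟩
  have hstd : ∀ W : Submodule F (Fin (k + j) ⊕ Fin (k + j) → F), IsCompl W (B.orthogonal W) →
      finrank F W = 2 * k →
      (∃ e : (Fin k ⊕ Fin k → F) ≃ₗ[F] W, ∀ u v, B (e u : Fin (k + j) ⊕ Fin (k + j) → F) (e v) = sympForm k F u v) ∧
      (∃ e : (Fin j ⊕ Fin j → F) ≃ₗ[F] B.orthogonal W,
        ∀ u v, B (e u : Fin (k + j) ⊕ Fin (k + j) → F) (e v) = sympForm j F u v) := by
    intro W hc hd
    refine ⟨exists_std_equiv (B.restrict W) (fun v => hA v) (restrict_sepLeft hA hc.disjoint) hd,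
      exists_std_equiv (B.restrict (B.orthogonal W)) (fun v => hA v) (restrict_orth_sepLeft hA hB hc) ?_⟩
    rw [LinearMap.BilinForm.finrank_orthogonal (nondeg_of_sepLeft hA hB), finrank_std, hd]
    omega
  let H : Subgroup (isom B) :=
    { carrier := {g | ∀ v, v ∈ W0 ↔ g.1 v ∈ W0}
      one_mem' := fun v => Iff.rfl
      mul_mem' := fun {a b} ha hb v => (hb v).trans (ha (b.1 v))
      inv_mem' := fun {a} ha v => by
        have := ha (a.1.symm v)
        rw [a.1.apply_symm_apply] at this
        exact this.symm }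
  have hcard : ∀ (W : Submodule F (Fin (k + j) ⊕ Fin (k + j) → F)) (g : isom B),
      IsCompl W (B.orthogonal W) → IsCompl (W.map g.1.toLinearMap) (B.orthogonal (W.map g.1.toLinearMap)) := by
    intro W g hc
    refine isCompl_of_disjoint hA hB (Submodule.disjoint_def.2 ?_)
    rintro _ ⟨w, hw, rfl⟩ h
    rw [show w = 0 from Submodule.disjoint_def.1 hc.disjoint w hw fun v hv => ?_, map_zero]
    exact (g.2 v w).symm.trans (h _ ⟨v, hv, rfl⟩)
  have horb := CfsgLib.ClassicalGroups.natCard_eq_image_mul H (fun g => W0.map g.1.toLinearMap)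
    {W | IsCompl W (B.orthogonal W) ∧ finrank F W = 2 * k} (fun a b => ?_)
    (fun g => ⟨hcard W0 g hW0c, by rw [LinearEquiv.finrank_map_eq, hW0d]⟩) ?_
  · rw [Nat.card_congr (isomEquiv (k + j) F).toEquiv, horb]
    refine congrArg (_ * ·) ?_
    let e : H ≃ isomStab B W0 :=
      { toFun := fun g => ⟨g.1.1, g.1.2, g.2⟩
        invFun := fun g => ⟨⟨g.1, g.2.1⟩, g.2.2⟩
        left_inv := fun _ => rfl
        right_inv := fun _ => rfl }
    obtain ⟨⟨e1, he1⟩, ⟨e2, he2⟩⟩ := hstd W0 hW0c hW0d
    rw [Nat.card_congr (e.trans (isomStabEquiv B hA W0 hW0c).toEquiv), Nat.card_prod,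
      Nat.card_congr (isomEquiv k F).toEquiv, Nat.card_congr (isomEquiv j F).toEquiv]
    congr 1
    · exact Nat.card_congr (isomCongr e1 fun u v => (he1 u v).trans (sympBilin_apply u v).symm).toEquiv
    · exact Nat.card_congr (isomCongr e2 fun u v => (he2 u v).trans (sympBilin_apply u v).symm).toEquiv
  · show _ ↔ ∀ v, v ∈ W0 ↔ a.1.symm (b.1 v) ∈ W0
    constructor
    · intro h v
      constructor
      · intro hv
        obtain ⟨w, hw, e⟩ : b.1 v ∈ W0.map a.1.toLinearMap := by rw [h]; exact ⟨v, hv, rfl⟩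
        have e' : a.1 w = b.1 v := e
        rwa [← e', a.1.symm_apply_apply]
      · intro hv
        obtain ⟨w, hw, e⟩ : b.1 v ∈ W0.map b.1.toLinearMap := by
          rw [← h]; exact ⟨_, hv, a.1.apply_symm_apply _⟩
        rwa [← b.1.injective (e : b.1 w = b.1 v)]
    · intro h
      ext x
      constructor
      · rintro ⟨w, hw, rfl⟩
        refine ⟨b.1.symm (a.1 w), (h _).2 ?_, b.1.apply_symm_apply _⟩
        rwa [b.1.apply_symm_apply, a.1.symm_apply_apply]
      · rintro ⟨w, hw, rfl⟩
        exact ⟨_, (h w).1 hw, a.1.apply_symm_apply _⟩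
  · rintro W ⟨hc, hd⟩
    obtain ⟨⟨e1, he1⟩, ⟨e2, he2⟩⟩ := hstd W0 hW0c hW0d
    obtain ⟨⟨f1, hf1⟩, ⟨f2, hf2⟩⟩ := hstd W hc hd
    let P := Submodule.prodEquivOfIsCompl W0 _ hW0c
    let Q := Submodule.prodEquivOfIsCompl W _ hc
    let g := P.symm.trans (((e1.symm.trans f1).prodCongr (e2.symm.trans f2)).trans Q)
    have hgP : ∀ z, g (P z) = Q (f1 (e1.symm z.1), f2 (e2.symm z.2)) := fun z => by simp [g]
    have hsplit : ∀ (W' : Submodule F (Fin (k + j) ⊕ Fin (k + j) → F)) (w w' : W') (u u' : B.orthogonal W'),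
        B ((w : Fin (k + j) ⊕ Fin (k + j) → F) + u) ((w' : Fin (k + j) ⊕ Fin (k + j) → F) + u') =
          B (w : Fin (k + j) ⊕ Fin (k + j) → F) w' + B (u : Fin (k + j) ⊕ Fin (k + j) → F) u' := by
      intro W' w w' u u'
      simp only [map_add, LinearMap.add_apply]
      rw [show B (w : Fin (k + j) ⊕ Fin (k + j) → F) u' = 0 from u'.2 _ w.2, alt_flip hA (w' : Fin (k + j) ⊕ Fin (k + j) → F) u,
        show B (w' : Fin (k + j) ⊕ Fin (k + j) → F) u = 0 from u.2 _ w'.2]
      ring
    refine ⟨⟨g, fun x y => ?_⟩, Submodule.eq_of_le_of_finrank_eq ?_ (by rw [LinearEquiv.finrank_map_eq, hW0d, hd])⟩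
    · obtain ⟨z, rfl⟩ := P.surjective x
      obtain ⟨z', rfl⟩ := P.surjective y
      rw [hgP, hgP]
      simp only [P, Q, Submodule.coe_prodEquivOfIsCompl']
      rw [hsplit, hsplit, hf1, hf2, ← he1, ← he2]
      simp only [LinearEquiv.apply_symm_apply]
    · rintro _ ⟨w, hw, rfl⟩
      show g w ∈ W
      have h := hgP (⟨w, hw⟩, 0)
      simp only [P, Q, Submodule.coe_prodEquivOfIsCompl', map_zero, ZeroMemClass.coe_zero, add_zero] at h
      rw [h]
      exact Subtype.mem _

variable [Fintype F]

/-- Splitting the group by the generalised fixed space. -/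
theorem card_sp_eq (m : ℕ) :
    Nat.card (Matrix.symplecticGroup (Fin m) F) = ∑ k ∈ Finset.range (m + 1),
      Nat.card {W : Submodule F (Fin m ⊕ Fin m → F) // IsCompl W ((sympBilin m F).orthogonal W) ∧ finrank F W = 2 * k} *
        (uCount (sympBilin k F) * fCount (sympBilin (m - k) F)) := by
  classical
  set B := sympBilin m F with hBdef
  have hA : B.IsAlt := sympBilin_isAlt
  have hB : LinearMap.SeparatingLeft B := sympBilin_separatingLeft
  have := Fintype.ofFinite (Submodule F (Fin m ⊕ Fin m → F))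
  haveI : Finite ((Fin m ⊕ Fin m → F) ≃ₗ[F] (Fin m ⊕ Fin m → F)) :=
    Finite.of_injective _ DFunLike.coe_injective
  rw [Nat.card_congr (isomEquiv m F).toEquiv, ← hBdef,
    ← Nat.card_congr (Equiv.sigmaFiberEquiv fun g : isom B => genKer g.1), Nat.card_sigma]
  rw [Finset.sum_congr rfl fun W _ => card_fibre hA hB W, ← Finset.sum_filter]
  have hev : ∀ W : Submodule F (Fin m ⊕ Fin m → F), IsCompl W (B.orthogonal W) → ∃ k ≤ m, finrank F W = 2 * k := by
    intro W hc
    obtain ⟨m', r, b, -, -, -, h4⟩ := Cfsg.Agent.S0752.result (B.restrict W) (fun v => hA v)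
    rcases Nat.eq_zero_or_pos r with hr | hr
    swap
    · exact absurd (restrict_sepLeft hA hc.disjoint _ (h4 ⟨0, hr⟩)) (b.ne_zero _)
    subst hr
    have h1 := Module.finrank_eq_card_basis b
    simp at h1
    have h2 := Submodule.finrank_le W
    rw [finrank_std] at h2
    exact ⟨m', by omega, by omega⟩
  rw [← Finset.sum_fiberwise_of_maps_to (g := fun W : Submodule F (Fin m ⊕ Fin m → F) => finrank F W / 2)
    (t := Finset.range (m + 1)) (fun W hW => by
      obtain ⟨k, hk, e⟩ := hev W (Finset.mem_filter.1 hW).2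
      simp only [Finset.mem_range, e]
      omega)]
  refine Finset.sum_congr rfl fun k hk => ?_
  have hkm : k ≤ m := Nat.lt_succ_iff.1 (Finset.mem_range.1 hk)
  have hval : ∀ W : Submodule F (Fin m ⊕ Fin m → F), IsCompl W (B.orthogonal W) → finrank F W = 2 * k →
      uCount (B.restrict W) * fCount (B.restrict (B.orthogonal W)) =
        uCount (sympBilin k F) * fCount (sympBilin (m - k) F) := by
    intro W hc hd
    obtain ⟨e1, he1⟩ := exists_std_equiv (B.restrict W) (fun v => hA v) (restrict_sepLeft hA hc.disjoint) hd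
    obtain ⟨e2, he2⟩ := exists_std_equiv (B.restrict (B.orthogonal W)) (fun v => hA v)
      (restrict_orth_sepLeft hA hB hc) (k := m - k) (by
        rw [LinearMap.BilinForm.finrank_orthogonal (nondeg_of_sepLeft hA hB), finrank_std, hd]
        omega)
    rw [← (counts_congr e1 fun u v => (he1 u v).trans (sympBilin_apply u v).symm).1,
      ← (counts_congr e2 fun u v => (he2 u v).trans (sympBilin_apply u v).symm).2]
  rw [Finset.filter_filter, Finset.sum_congr rfl (g := fun _ => uCount (sympBilin k F) * fCount (sympBilin (m - k) F))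
    (fun W hW => by
      obtain ⟨hc, hd⟩ := (Finset.mem_filter.1 hW).2
      obtain ⟨k', -, e⟩ := hev W hc
      exact hval W hc (by omega)), Finset.sum_const, smul_eq_mul, Nat.card_eq_fintype_card, Fintype.card_subtype]
  congr 2
  ext W
  simp only [Finset.mem_filter, Finset.mem_univ, true_and]
  refine and_congr_right fun hc => ?_
  obtain ⟨k', -, e⟩ := hev W hc
  omega

theorem injective_disp_iff (g : Matrix.symplecticGroup (Fin m) F) :
    Function.Injective (disp (toEquiv m F g)) ↔ ((g : Matrix (Fin m ⊕ Fin m) (Fin m ⊕ Fin m) F) - 1).det ≠ 0 := by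
  rw [← LinearMap.ker_eq_bot, show disp (toEquiv m F g) =
    ((g : Matrix (Fin m ⊕ Fin m) (Fin m ⊕ Fin m) F) - 1).mulVecLin from LinearMap.ext fun v => by
      simp [disp_apply, Matrix.sub_mulVec], Matrix.ker_mulVecLin_eq_bot_iff, ne_eq,
    ← Matrix.exists_mulVec_eq_zero_iff, not_exists]
  exact forall_congr' fun v => by tauto

theorem card_unipotent_std (m : ℕ) : uCount (sympBilin m F) = Fintype.card F ^ (2 * m ^ 2) := by
  set q := Fintype.card F with hqdef
  have hq : 1 < q := Fintype.one_lt_card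
  let S : ℕ → ℕ := fun k => Nat.card (Matrix.symplecticGroup (Fin k) F)
  let N : PowerSeries ℚ := PowerSeries.mk fun k => (uCount (sympBilin k F) : ℚ) / S k
  have hI : ∀ k, (fCount (sympBilin k F) : ℚ) / S k = PowerSeries.coeff k (serE q * serC q) := fun k => by
    rw [hqdef, ← card_fixFree_div (F := F) k]
    congr 2
    exact (Nat.card_congr ((isomEquiv k F).toEquiv.subtypeEquiv fun g => (injective_disp_iff g).symm)).symm
  have hconv : N * (serE q * serC q) = PowerSeries.mk 1 := by
    refine PowerSeries.ext fun n => ?_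
    rw [PowerSeries.coeff_mul, Finset.Nat.sum_antidiagonal_eq_sum_range_succ_mk, PowerSeries.coeff_mk, Pi.one_apply]
    have hS : ∀ k, (S k : ℚ) ≠ 0 := fun k => Nat.cast_ne_zero.2 Nat.card_pos.ne'
    have h := card_sp_eq (F := F) n
    have : (S n : ℚ) = ∑ k ∈ Finset.range (n + 1),
        (S n : ℚ) * (PowerSeries.coeff k N * PowerSeries.coeff (n - k) (serE q * serC q)) := by
      conv_lhs => rw [show S n = _ from h, Nat.cast_sum]
      refine Finset.sum_congr rfl fun k hk => ?_
      obtain ⟨j, rfl⟩ : ∃ j, n = k + j := ⟨n - k, by have := Finset.mem_range.1 hk; omega⟩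
      have h1 : (S (k + j) : ℚ) = (Nat.card {W : Submodule F (Fin (k + j) ⊕ Fin (k + j) → F) //
          IsCompl W ((sympBilin (k + j) F).orthogonal W) ∧ finrank F W = 2 * k} : ℚ) * (S k * S j) := by
        exact_mod_cast (card_nondeg_mul (F := F) k j).symm
      rw [PowerSeries.coeff_mk, ← hI, Nat.add_sub_cancel_left, h1, Nat.cast_mul, Nat.cast_mul]
      field_simp [hS k, hS j]
    rw [← Finset.mul_sum] at this
    exact mul_left_cancel₀ (hS n) (this.symm.trans (mul_one _).symm)
  have h := congrArg (PowerSeries.coeff m) (eq_serA_of_conv hq hconv)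
  rw [PowerSeries.coeff_mk, serA, PowerSeries.coeff_mk] at h
  have hS : (S m : ℚ) = (q : ℚ) ^ m ^ 2 * evenProd q m := by
    show ((Nat.card (Matrix.symplecticGroup (Fin m) F) : ℕ) : ℚ) = _
    rw [card_symplecticGroup hqdef.symm, evenProd]
    push_cast
    ring
  have hq0 : (q : ℚ) ≠ 0 := Nat.cast_ne_zero.2 (by omega)
  have hP0 : (evenProd q m : ℚ) ≠ 0 := Nat.cast_ne_zero.2 (evenProd_pos hq m).ne'
  rw [hS] at h
  field_simp at h
  have h2 : (uCount (sympBilin m F) : ℚ) = ((q ^ (2 * m ^ 2) : ℕ) : ℚ) := by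
    push_cast
    rw [two_mul, pow_add]
    linear_combination h
  exact_mod_cast h2

/-- Steinberg's count of unipotent elements of the symplectic group. -/
theorem card_pElements (p : ℕ) [Fact p.Prime] [CharP F p] (m : ℕ) :
    Nat.card {g : Matrix.symplecticGroup (Fin m) F // ∃ k : ℕ, orderOf g = p ^ k} = Fintype.card F ^ (2 * m ^ 2) := by
  rw [← card_unipotent_std]
  refine Nat.card_congr ((isomEquiv m F).toEquiv.subtypeEquiv fun g => ?_)
  show _ ↔ IsNilpotent (disp (toEquiv m F g))
  set M := (g : Matrix (Fin m ⊕ Fin m) (Fin m ⊕ Fin m) F)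
  have hd : disp (toEquiv m F g) = Matrix.toLinAlgEquiv' (M - 1) := LinearMap.ext fun v => by
    simp [disp_apply, Matrix.sub_mulVec, M]
  rw [hd, IsNilpotent.map_iff Matrix.toLinAlgEquiv'.injective]
  have hpow : ∀ a : ℕ, (M - 1) ^ p ^ a = M ^ p ^ a - 1 := fun a => by
    rcases isEmpty_or_nonempty (Fin m ⊕ Fin m) with h | h
    · exact Subsingleton.elim _ _
    rw [sub_pow_char_pow_of_commute p a (Commute.one_right M), one_pow]
  have hiff : ∀ a : ℕ, g ^ p ^ a = 1 ↔ (M - 1) ^ p ^ a = 0 := fun a => by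
    rw [hpow, sub_eq_zero, Subtype.ext_iff, SubmonoidClass.coe_pow, Submonoid.coe_one]
  constructor
  · rintro ⟨a, ha⟩
    exact ⟨p ^ a, (hiff a).1 (ha ▸ pow_orderOf_eq_one g)⟩
  · rintro ⟨n, hn⟩
    have h1 : (M - 1) ^ p ^ n = 0 :=
      pow_eq_zero_of_le (Nat.lt_pow_self (Fact.out : p.Prime).one_lt).le hn
    obtain ⟨a, -, ha⟩ := (Nat.dvd_prime_pow (Fact.out : p.Prime)).1 (orderOf_dvd_of_pow_eq_one ((hiff n).2 h1))
    exact ⟨a, ha⟩

end Std

end CfsgLib.SpUnipCount
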